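import Cfsg.Agent.Lib.SL2Deg.Table
import Cfsg.Agent.Lib.SL2Deg.Even
import Cfsg.Agent.Lib.SL2Deg.Degrees
import Cfsg.Agent.Lib.SL2Cusp.Half

/-! Identification of the irreducible characters of `SL₂(F)` of a given degree, and their values
at a transvection. -/

set_option autoImplicit false

open scoped ComplexConjugate
open Matrix CfsgLib.SL2Trace CfsgLib.SL2Borel CfsgLib.SL2Deg

namespace CfsgLib.SL2Values

attribute [local instance] CfsgLib.SL2Deg.fintypeMulChar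

variable {F : Type*} [Field F] [Fintype F] [DecidableEq F]

local notation "SL2" => Matrix.SpecialLinearGroup (Fin 2) F

/-- A primitive additive character and a non-square. -/
theorem exists_setup (hodd : Odd (Fintype.card F)) :
    ∃ (ψ : AddChar F ℂ) (ν : F), ψ.IsPrimitive ∧ ¬ IsSquare ν := by
  obtain ⟨ψ, hψ⟩ := exists_primitive (F := F)
  obtain ⟨ν, hν⟩ := FiniteField.exists_nonsquare (F := F) (fun e => CfsgLib.SL2Deg.two_ne_zero_of_odd hodd (by
    have : CharP F 2 := ringChar.of_eq e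
    exact_mod_cast CharP.cast_eq_zero F 2))
  exact ⟨ψ, ν, hψ, hν⟩

variable {ψ : AddChar F ℂ} {ν : F}

/-- Fourier inversion on the root group. -/
theorem sum_mult_mul (hψ : ψ.IsPrimitive) (χ : Cfsg.IrrCharacter SL2) (b : F) :
    ∑ t : F, (mult ψ t χ : ℂ) * ψ (t * b) = (χ : SL2 → ℂ) (u b) := by
  have hq : (Fintype.card F : ℂ) ≠ 0 := Nat.cast_ne_zero.2 Fintype.card_ne_zero
  simp only [← mult_spec, coef, Finset.sum_mul, mul_assoc, Finset.mul_sum]
  rw [Finset.sum_comm, Finset.sum_eq_single b]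
  · rw [Finset.sum_congr rfl fun t _ => (show (Fintype.card F : ℂ)⁻¹ * ((χ : SL2 → ℂ) (u b) *
      (conj (ψ (t * b)) * ψ (t * b))) = (Fintype.card F : ℂ)⁻¹ * (χ : SL2 → ℂ) (u b) by
        rw [← AddChar.map_neg_eq_conj, ← AddChar.map_add_eq_mul, neg_add_cancel,
          AddChar.map_zero_eq_one, mul_one]), Finset.sum_const, Finset.card_univ, nsmul_eq_mul]
    field_simp
  · intro d _ hd
    have he : ∀ t : F, conj (ψ (t * d)) * ψ (t * b) = ψ (t * (b - d)) := by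
      intro t
      rw [← AddChar.map_neg_eq_conj, ← AddChar.map_add_eq_mul]
      congr 1
      ring
    simp only [he, ← Finset.mul_sum]
    rw [AddChar.sum_mulShift _ hψ, if_neg (sub_ne_zero.2 (Ne.symm hd))]
    simp
  · simp

/-- The transvection with entry one. -/
theorem eq_u_one {g : SL2} (hg : (g : Matrix (Fin 2) (Fin 2) F) = !![1, 1; 0, 1]) : g = u 1 :=
  Subtype.ext (by rw [hg, coe_u])

/-- The eight kinds of irreducible character, with their vectors. -/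
theorem odd_cases (hodd : Odd (Fintype.card F)) (h3 : 3 ≤ Fintype.card F) (hψ : ψ.IsPrimitive)
    (hν : ¬ IsSquare ν) :
    ∃ (St A B C C' : Cfsg.IrrCharacter SL2),
      (∀ g, (St : SL2 → ℂ) g = R (1 : MulChar F ℂ) g - 1) ∧
      ∀ χ : Cfsg.IrrCharacter SL2, Vec ψ ν χ 1 0 0 ∨ (χ = St ∧ Vec ψ ν χ 1 1 1) ∨
        (χ = A ∧ Vec ψ ν χ 1 1 0) ∨ (χ = B ∧ Vec ψ ν χ 1 0 1) ∨ (χ = C ∧ Vec ψ ν χ 0 1 0) ∨
        (χ = C' ∧ Vec ψ ν χ 0 0 1) ∨ Vec ψ ν χ 2 1 1 ∨ Vec ψ ν χ 0 1 1 := by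
  obtain ⟨P, St, A, B, C, C', D, E, -, hSt, vP, vS, vA, vB, vC, vC', vD, vE, -, -, -, hsplit⟩ :=
    odd_table hψ (CfsgLib.SL2Deg.two_ne_zero_of_odd hodd) h3 hodd hν
  refine ⟨St, A, B, C, C', hSt, fun χ => ?_⟩
  refine mem_of_sum_split (χ := χ) (p := fun x => Vec ψ ν x 1 0 0 ∨ (x = St ∧ Vec ψ ν x 1 1 1) ∨
    (x = A ∧ Vec ψ ν x 1 1 0) ∨ (x = B ∧ Vec ψ ν x 1 0 1) ∨ (x = C ∧ Vec ψ ν x 0 1 0) ∨
    (x = C' ∧ Vec ψ ν x 0 0 1) ∨ Vec ψ ν x 2 1 1 ∨ Vec ψ ν x 0 1 1) [P, St, A, B, C, C'] D E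
    ?_ (fun x hx => by simp [vD x hx]) (fun x hx => by simp [vE x hx])
    (fun g => by rw [hsplit g]; simp; ring)
  simp [vP, vS, vA, vB, vC, vC']

/-- The degree in terms of the vector, over the natural numbers. -/
theorem nat_degree (hψ : ψ.IsPrimitive) (hν : ¬ IsSquare ν) {χ : Cfsg.IrrCharacter SL2}
    {f m n d : ℕ} (h : Vec ψ ν χ f m n) (hd : (χ : SL2 → ℂ) 1 = (d : ℂ)) :
    f + (Fintype.card F - 1) / 2 * (m + n) = d :=
  Nat.cast_injective ((apply_one_of_vec hψ hν h).symm.trans hd)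

omit [DecidableEq F] in
/-- Every element is a square in characteristic two. -/
theorem mult_eq_one_even [CharP F 2] {t : F} (ht : t ≠ 0) (χ : Cfsg.IrrCharacter SL2) [DecidableEq F] :
    mult ψ t χ = mult ψ 1 χ :=
  mult_of_square ht (FiniteField.isSquare_of_char_two (ringChar.eq F 2) t) χ

theorem nat_degree_even [CharP F 2] (hψ : ψ.IsPrimitive) {χ : Cfsg.IrrCharacter SL2}
    {f m d : ℕ} (hf : mult ψ 0 χ = f) (hm : mult ψ 1 χ = m) (hd : (χ : SL2 → ℂ) 1 = (d : ℂ)) :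
    f + (Fintype.card F - 1) * m = d := by
  refine Nat.cast_injective (R := ℂ) (Eq.trans ?_ hd)
  rw [apply_one_eq_sum hψ]
  congr 1
  rw [← Finset.add_sum_erase _ _ (Finset.mem_univ (0 : F)), hf,
    Finset.sum_congr rfl (fun t ht => by rw [mult_eq_one_even (Finset.ne_of_mem_erase ht), hm]),
    Finset.sum_const, Finset.card_erase_of_mem (Finset.mem_univ _), Finset.card_univ, smul_eq_mul]

theorem even_cases [CharP F 2] (hψ : ψ.IsPrimitive) :
    ∃ St : Cfsg.IrrCharacter SL2, (∀ g, (St : SL2 → ℂ) g = R (1 : MulChar F ℂ) g - 1) ∧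
      ∀ χ : Cfsg.IrrCharacter SL2, (mult ψ 0 χ = 1 ∧ mult ψ 1 χ = 0) ∨
        (χ = St ∧ mult ψ 0 χ = 1 ∧ mult ψ 1 χ = 1) ∨ (mult ψ 0 χ = 2 ∧ mult ψ 1 χ = 1) ∨
        (mult ψ 0 χ = 0 ∧ mult ψ 1 χ = 1) := by
  obtain ⟨P, St, D, E, -, hSt, vP, vS, vD, vE, -, -, -, hsplit⟩ := even_table (F := F) hψ
  refine ⟨St, hSt, fun χ => ?_⟩
  refine mem_of_sum_split (χ := χ) (p := fun x => (mult ψ 0 x = 1 ∧ mult ψ 1 x = 0) ∨
        (x = St ∧ mult ψ 0 x = 1 ∧ mult ψ 1 x = 1) ∨ (mult ψ 0 x = 2 ∧ mult ψ 1 x = 1) ∨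
        (mult ψ 0 x = 0 ∧ mult ψ 1 x = 1)) [P, St] D E
    ?_ (fun x hx => by simp [vD x hx]) (fun x hx => by simp [vE x hx])
    (fun g => by rw [hsplit g]; simp)
  simp [vP, vS]

/-- The Steinberg character is the only one of degree `q`. -/
theorem eq_steinberg {χ : SL2 → ℂ} (hχ : Cfsg.IsIrrCharacter SL2 χ)
    (h1 : χ 1 = (Fintype.card F : ℂ)) (g : SL2) : χ g = R (1 : MulChar F ℂ) g - 1 := by
  have hq2 : 2 ≤ Fintype.card F := Fintype.one_lt_card
  by_cases hodd : Odd (Fintype.card F)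
  · obtain ⟨ψ, ν, hψ, hν⟩ := exists_setup hodd
    obtain ⟨j, hj⟩ := hodd
    obtain ⟨St, A, B, C, C', hSt, hall⟩ := odd_cases ⟨j, hj⟩ (by omega) hψ hν
    have hd := fun {f m n : ℕ} (h : Vec ψ ν (⟨χ, hχ⟩ : Cfsg.IrrCharacter SL2) f m n) =>
      nat_degree hψ hν h h1
    have hh : (Fintype.card F - 1) / 2 = j := by omega
    rcases hall ⟨χ, hχ⟩ with h | ⟨e, -⟩ | ⟨-, h⟩ | ⟨-, h⟩ | ⟨-, h⟩ | ⟨-, h⟩ | h | h
    rotate_left
    · rw [← hSt g, ← e]
    all_goals exact absurd (hd h) (by rw [hh]; omega)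
  · have := charP_two_of_even hodd
    obtain ⟨ψ, hψ⟩ := exists_primitive (F := F)
    obtain ⟨St, hSt, hall⟩ := even_cases (F := F) hψ
    have hd := fun {f m : ℕ} (hf : mult ψ 0 (⟨χ, hχ⟩ : Cfsg.IrrCharacter SL2) = f)
      (hm : mult ψ 1 (⟨χ, hχ⟩ : Cfsg.IrrCharacter SL2) = m) => nat_degree_even hψ hf hm h1
    rcases hall ⟨χ, hχ⟩ with ⟨a, b⟩ | ⟨e, -⟩ | ⟨a, b⟩ | ⟨a, b⟩
    rotate_left
    · rw [← hSt g, ← e]
    all_goals exact absurd (hd a b) (by omega)

/-- A character whose multiplicities are constant away from zero. -/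
theorem apply_u_one_of_const (hψ : ψ.IsPrimitive) {χ : Cfsg.IrrCharacter SL2} {f m : ℕ}
    (hf : mult ψ 0 χ = f) (hm : ∀ t : F, t ≠ 0 → mult ψ t χ = m) :
    (χ : SL2 → ℂ) (u 1) = (f : ℂ) - m := by
  rw [← sum_mult_mul hψ χ 1, ← Finset.add_sum_erase _ _ (Finset.mem_univ (0 : F)), hf, zero_mul,
    AddChar.map_zero_eq_one,
    Finset.sum_congr rfl (fun t ht => by rw [hm t (Finset.ne_of_mem_erase ht), mul_one]),
    ← Finset.mul_sum, Finset.sum_erase_eq_sub (Finset.mem_univ _), AddChar.map_zero_eq_one]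
  have h := AddChar.sum_mulShift (1 : F) hψ
  simp only [mul_one, one_ne_zero, if_false, Nat.cast_zero] at h
  rw [h]
  ring

/-- Degree `q ± 1` at a transvection. -/
theorem apply_u_one_pm (hq : 4 ≤ Fintype.card F) {χ : SL2 → ℂ} (hχ : Cfsg.IsIrrCharacter SL2 χ) :
    (χ 1 = (Fintype.card F : ℂ) + 1 → χ (u 1) = 1) ∧
      (χ 1 = (Fintype.card F : ℂ) - 1 → χ (u 1) = -1) := by
  have key : ∀ d : ℕ, χ 1 = (d : ℂ) → (d = Fintype.card F + 1 ∨ d = Fintype.card F - 1) →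
      χ (u 1) = if d = Fintype.card F + 1 then 1 else -1 := by
    intro d hd hcase
    by_cases hodd : Odd (Fintype.card F)
    · obtain ⟨ψ, ν, hψ, hν⟩ := exists_setup hodd
      obtain ⟨St, A, B, C, C', hSt, hall⟩ := odd_cases hodd (by omega) hψ hν
      obtain ⟨j, hj⟩ := hodd
      have hh : (Fintype.card F - 1) / 2 = j := by omega
      have hd' := fun {f m n : ℕ} (h : Vec ψ ν (⟨χ, hχ⟩ : Cfsg.IrrCharacter SL2) f m n) =>
        nat_degree hψ hν h hd
      have hcon : ∀ {f : ℕ}, Vec ψ ν (⟨χ, hχ⟩ : Cfsg.IrrCharacter SL2) f 1 1 →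
          χ (u 1) = (f : ℂ) - 1 := by
        intro f h
        refine (apply_u_one_of_const hψ (χ := ⟨χ, hχ⟩) (m := 1) h.1 fun t ht => ?_).trans (by simp)
        by_cases hs : IsSquare t
        · rw [mult_of_square ht hs]; exact h.2.1
        · rw [mult_of_nonsquare hν hs]; exact h.2.2
      rcases hall ⟨χ, hχ⟩ with h | ⟨-, h⟩ | ⟨-, h⟩ | ⟨-, h⟩ | ⟨-, h⟩ | ⟨-, h⟩ | h | h <;>
        have hval := hd' h <;> rw [hh] at hval
      all_goals first
        | (exfalso; omega)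
        | (rw [hcon h]; split_ifs <;> first | (exfalso; omega) | norm_num)
    · have := charP_two_of_even hodd
      obtain ⟨ψ, hψ⟩ := exists_primitive (F := F)
      obtain ⟨St, hSt, hall⟩ := even_cases (F := F) hψ
      have hd' := fun {f m : ℕ} (hf : mult ψ 0 (⟨χ, hχ⟩ : Cfsg.IrrCharacter SL2) = f)
        (hm : mult ψ 1 (⟨χ, hχ⟩ : Cfsg.IrrCharacter SL2) = m) => nat_degree_even hψ hf hm hd
      rcases hall ⟨χ, hχ⟩ with ⟨a, b⟩ | ⟨-, a, b⟩ | ⟨a, b⟩ | ⟨a, b⟩ <;>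
        have hval := hd' a b
      all_goals first
        | (exfalso; omega)
        | (rw [show χ (u 1) = _ from apply_u_one_of_const hψ (χ := ⟨χ, hχ⟩) a
            (fun t ht => (mult_eq_one_even ht _).trans b)]
           split_ifs <;> first | (exfalso; omega) | norm_num)
  refine ⟨fun h => ?_, fun h => ?_⟩
  · rw [key (Fintype.card F + 1) (by push_cast; exact h) (Or.inl rfl), if_pos rfl]
  · rw [key (Fintype.card F - 1) (by rw [Nat.cast_sub (by omega), Nat.cast_one]; exact h)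
      (Or.inr rfl), if_neg (by omega)]

/-- No cuspidal constituent sees the split torus. -/
theorem apply_diag_of_mult_zero {χ : Cfsg.IrrCharacter SL2} (h0 : mult ψ 0 χ = 0) {g : SL2}
    (h01 : (g : Matrix (Fin 2) (Fin 2) F) 0 1 = 0) (h10 : (g : Matrix (Fin 2) (Fin 2) F) 1 0 = 0)
    (h00 : (g : Matrix (Fin 2) (Fin 2) F) 0 0 ^ 2 ≠ 1) : (χ : SL2 → ℂ) g = 0 := by
  classical
  have hd := det_coe g
  rw [h01, zero_mul, sub_zero] at hd
  have ha : (g : Matrix (Fin 2) (Fin 2) F) 0 0 ≠ 0 := left_ne_zero_of_mul_eq_one hd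
  let a : Fˣ := Units.mk0 _ ha
  have hz : ∀ α : MulChar F ℂ, Cfsg.classInner (R α) (χ : SL2 → ℂ) = 0 := by
    intro α
    by_contra h
    exact mult_zero_ne_zero h h0
  have hsum : ∀ b : Fˣ, ∑ v : F, conj ((χ : SL2 → ℂ) (bMk b v : SL2)) = 0 := by
    intro b
    set G : Fˣ → ℂ := fun c => ∑ v : F, conj ((χ : SL2 → ℂ) (bMk c v : SL2)) with hG
    have hα : ∀ α : MulChar F ℂ, ∑ c : Fˣ, α (c : F) * G c = 0 := by
      intro α
      have h := hz α
      rw [classInner_R_left α (CfsgLib.Char.IsIrrCharacter.isClassFunction χ.2)] at h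
      exact (mul_eq_zero.1 h).resolve_left (inv_ne_zero card_borel_ne_zero)
    have h2 : ∑ α : MulChar F ℂ, α ((b⁻¹ : Fˣ) : F) * ∑ c : Fˣ, α (c : F) * G c = 0 :=
      Finset.sum_eq_zero fun α _ => by rw [hα, mul_zero]
    simp only [Finset.mul_sum, ← mul_assoc, ← map_mul, ← Units.val_mul] at h2
    rw [Finset.sum_comm] at h2
    simp only [← Finset.sum_mul, sum_mulChar, ite_mul, zero_mul, inv_mul_eq_one, Finset.sum_ite_eq,
      Finset.mem_univ, if_true] at h2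
    exact (mul_eq_zero.1 h2).resolve_left (Nat.cast_ne_zero.2 (by
      have h1lt : 1 < Fintype.card F := Fintype.one_lt_card
      omega))
  have hc : ∀ v : F, (χ : SL2 → ℂ) (bMk a v : SL2) = (χ : SL2 → ℂ) g := by
    intro v
    have e11 : (g : Matrix (Fin 2) (Fin 2) F) 1 1 = (a : F)⁻¹ := by
      exact eq_inv_of_mul_eq_one_right hd
    obtain ⟨U, hU⟩ := isConj_of_trace_eq g (bMk a v : SL2) (by
        rw [Matrix.trace_fin_two, e11]
        intro h
        apply h00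
        have h' : ((a : F) ^ 2 - 1) * ((a : F) ^ 2 - 1) = 0 := by
          have hne : (a : F) ≠ 0 := a.ne_zero
          have e : ((a : F) + (a : F)⁻¹) ^ 2 = 4 := h
          field_simp at e
          linear_combination e
        exact sub_eq_zero.1 (mul_self_eq_zero.1 h')) (by
        rw [Matrix.trace_fin_two, Matrix.trace_fin_two, e11, bMk_coe]
        simp [a])
    rw [hU, CfsgLib.Char.IsIrrCharacter.isClassFunction χ.2 g U]
  have h := hsum a
  simp only [hc, Finset.sum_const, Finset.card_univ, nsmul_eq_mul] at h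
  exact (map_eq_zero (starRingEnd ℂ)).1
    ((mul_eq_zero.1 h).resolve_left (Nat.cast_ne_zero.2 Fintype.card_ne_zero))

/-- No regular elliptic element is seen by a principal series constituent other than the
trivial and Steinberg ones. -/
theorem apply_noEigen (hodd : Odd (Fintype.card F)) {χ : Cfsg.IrrCharacter SL2}
    (h0 : mult ψ 0 χ ≠ 0) (hψ : ψ.IsPrimitive) (hP : ¬ ∀ t : F, mult ψ t χ = if t = 0 then 1 else 0)
    (hS : ¬ ∀ t : F, mult ψ t χ = 1) {g : SL2}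
    (hg : ∀ (c : F) (v : Fin 2 → F), v ≠ 0 → (g : Matrix (Fin 2) (Fin 2) F).mulVec v ≠ c • v) :
    (χ : SL2 → ℂ) g = 0 := by
  classical
  obtain ⟨α, hα⟩ := exists_R_constituent (ψ := ψ) χ h0
  by_cases hr : α⁻¹ = α
  swap
  · have h1 : Cfsg.classInner (R α) (R α) = 1 := by
      rw [classInner_R, if_pos rfl, if_neg (fun e => hr e.symm), add_zero]
    have hirr := CfsgLib.Char.IsCharacter.isIrrCharacter_of_classInner_self
      (exists_nat_classInner_R α) h1
    rw [← CfsgLib.Char.eq_of_classInner_ne_zero hirr χ.2 hα]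
    exact R_noEigen α hg
  by_cases h1 : α = 1
  · subst h1
    obtain ⟨P, St, -, -, -, hPm, hStm, hcov⟩ := exists_principal_pair (F := F) hψ
    rcases hcov χ hα with e | e
    · exact absurd (e ▸ hPm) hP
    · exact absurd (e ▸ hStm) hS
  obtain ⟨A, B, ν, hAB, hsum, hBA, -, -⟩ := CfsgLib.GL2Char.quadratic_split hodd hr h1
  obtain ⟨A', B', -, hsum', hcov⟩ := two_constituents (exists_nat_classInner_R α) (by
    rw [classInner_R, if_pos rfl, if_pos hr.symm]; norm_num)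
  have hAB' : ∀ Z : Cfsg.IrrCharacter SL2, Cfsg.classInner (R α) (Z : SL2 → ℂ) ≠ 0 → Z = A ∨ Z = B := by
    intro Z hZ
    by_contra hne
    apply hZ
    rw [hsum, CfsgLib.Char.classInner_add_left, CfsgLib.Char.classInner_irrCharacter,
      CfsgLib.Char.classInner_irrCharacter, if_neg (fun e => hne (Or.inl e.symm)),
      if_neg (fun e => hne (Or.inr e.symm)), add_zero]
  have hreg : (g : Matrix (Fin 2) (Fin 2) F).trace ^ 2 ≠ 4 := by
    intro e
    have h2 := CfsgLib.SL2Deg.two_ne_zero_of_odd hodd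
    refine CfsgLib.SL2Cusp.no_root_of_noEigen hg ⟨(g : Matrix (Fin 2) (Fin 2) F).trace / 2, ?_⟩
    field_simp
    linear_combination -e
  have h := R_noEigen α hg
  rw [hsum, Pi.add_apply] at h
  have hAB2 : (B : SL2 → ℂ) g = (A : SL2 → ℂ) g := by
    have e := hBA g
    rwa [CfsgLib.SL2Cusp.twist_apply_eq hreg (CfsgLib.Char.IsIrrCharacter.isClassFunction B.2)] at e
  rw [hAB2, ← two_mul] at h
  have hA0 := (mul_eq_zero.1 h).resolve_left two_ne_zero
  rcases hAB' χ hα with e | e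
  · rw [e]; exact hA0
  · rw [e, hAB2]; exact hA0

/-- Sum of an additive character over squares or non-squares. -/
theorem half_gauss (hodd : Odd (Fintype.card F)) (hψ : ψ.IsPrimitive) (hν : ¬ IsSquare ν) :
    ∃ G : ℂ, G ^ 2 = (-1 : ℂ) ^ ((Fintype.card F - 1) / 2) * (Fintype.card F : ℂ) ∧
      ∀ (χ : Cfsg.IrrCharacter SL2) (f m n : ℕ), Vec ψ ν χ f m n →
        2 * (χ : SL2 → ℂ) (u 1) = 2 * f + (m : ℂ) * (G - 1) + (n : ℂ) * (-G - 1) := by
  classical
  have h2 := CfsgLib.SL2Deg.two_ne_zero_of_odd hodd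
  have hF : ringChar F ≠ 2 := fun e => h2 (by
    have : CharP F 2 := ringChar.of_eq e
    exact_mod_cast CharP.cast_eq_zero F 2)
  let η : MulChar F ℂ := (quadraticChar F).ringHomComp (Int.castRingHom ℂ)
  have hη1 : η ≠ 1 := by
    rw [MulChar.ringHomComp_ne_one_iff Int.cast_injective]
    exact quadraticChar_ne_one hF
  refine ⟨gaussSum η ψ, ?_, fun χ f m n hv => ?_⟩
  · rw [gaussSum_sq hη1 ((quadraticChar_isQuadratic F).comp _) hψ]
    congr 1
    obtain ⟨j, hj⟩ := hodd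
    rw [MulChar.ringHomComp_apply, quadraticChar_neg_one hF,
      ZMod.χ₄_eq_neg_one_pow (by omega), show (Fintype.card F - 1) / 2 = Fintype.card F / 2 by omega]
    simp
  obtain ⟨hf, hm, hn⟩ := hv
  set S := Finset.univ.erase (0 : F) with hS
  have h1 : ∑ t ∈ S, ψ t = -1 := by
    rw [hS, Finset.sum_erase_eq_sub (Finset.mem_univ _), AddChar.map_zero_eq_one]
    have h := AddChar.sum_mulShift (1 : F) hψ
    simp only [mul_one, one_ne_zero, if_false, Nat.cast_zero] at h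
    rw [h, zero_sub]
  have hG : ∑ t ∈ S, η t * ψ t = gaussSum η ψ := by
    rw [gaussSum, hS, Finset.sum_erase]
    rw [MulChar.map_zero, zero_mul]
  have hterm : ∀ t ∈ S, 2 * ((mult ψ t χ : ℂ) * ψ (t * 1)) =
      ((m : ℂ) + n) * ψ t + ((m : ℂ) - n) * (η t * ψ t) := by
    intro t ht
    have ht0 := Finset.ne_of_mem_erase ht
    rw [mul_one, MulChar.ringHomComp_apply]
    by_cases hs : IsSquare t
    · rw [mult_of_square ht0 hs, hm, (quadraticChar_one_iff_isSquare ht0).2 hs]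
      simp; ring
    · rw [mult_of_nonsquare hν hs, hn, quadraticChar_neg_one_iff_not_isSquare.2 hs]
      simp; ring
  rw [← sum_mult_mul hψ χ 1, ← Finset.add_sum_erase _ _ (Finset.mem_univ (0 : F)), hf, zero_mul,
    AddChar.map_zero_eq_one, mul_one, mul_add, ← hS, Finset.mul_sum, Finset.sum_congr rfl hterm,
    Finset.sum_add_distrib, ← Finset.mul_sum, ← Finset.mul_sum, h1, hG]
  ring

end CfsgLib.SL2Values
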